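import Cfsg.Agent.H508.KB.Defs

/-!
# S4822, arithmetic B1-B3 (task 3960, helper270)
-/

set_option autoImplicit false

namespace Cfsg.Agent.H270.KB

open Cfsg.Agent.H508.KB

/-- `C(a + t, t) ≥ 1 + a t` -/
theorem choose_ge : ∀ a t : ℕ, 1 + a * t ≤ (a + t).choose t
  | 0, t => by simp
  | a + 1, 0 => by simp
  | a + 1, t + 1 => by
    have h1 := choose_ge (a + 1) t
    have h2 := choose_ge a (t + 1)
    have h3 : (a + 1 + (t + 1)).choose (t + 1) = (a + 1 + t).choose t + (a + (t + 1)).choose (t + 1) := by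
      rw [show a + 1 + (t + 1) = (a + 1 + t) + 1 by ring, Nat.choose_succ_succ, show a + (t + 1) = a + 1 + t by ring]
    rw [h3]
    nlinarith [Nat.zero_le (a * t)]

/-- `C(κ + t - 1, t) ≥ 1 + t (κ - 1)` -/
theorem choose_ge' {κ t : ℕ} (hκ : 1 ≤ κ) : 1 + t * (κ - 1) ≤ (κ + t - 1).choose t := by
  obtain ⟨a, rfl⟩ : ∃ a, κ = a + 1 := ⟨κ - 1, by omega⟩
  have h := choose_ge a t
  rw [show a + 1 + t - 1 = a + t by omega, Nat.add_sub_cancel, mul_comm t a]
  exact h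

/-- `C(a + t, t)` is monotone in `t` -/
theorem choose_mono (a : ℕ) {s t : ℕ} (h : s ≤ t) : (a + s).choose s ≤ (a + t).choose t := by
  rw [Nat.choose_symm_add.symm, Nat.choose_symm_add.symm]
  exact Nat.choose_le_choose a (by omega)

variable {p : ℕ}

/-- B1 -/
theorem ar1 {K f κ : ℕ} (h : p - 1 ≤ f * (κ - 1)) (hK : f + κ ≤ K + 1) (hκ : 1 ≤ κ) : GoodN p K f κ := by
  intro t g n ht hf hn
  have h1 := choose_ge' (t := t) hκ
  have h2 : t * (κ - 1) + g ≤ n := by omega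
  obtain ⟨a, rfl⟩ : ∃ a, κ = a + 1 := ⟨κ - 1, by omega⟩
  rw [Nat.add_sub_cancel] at h h2
  have h3 : f * a ≤ t * g * a := Nat.mul_le_mul_right a hf
  have h4 : (t * a + g) ^ 2 ≤ n ^ 2 := Nat.pow_le_pow_left h2 2
  have h5 : 4 * (t * a * g) ≤ (t * a + g) ^ 2 := by
    zify
    nlinarith [sq_nonneg ((t : ℤ) * a - g)]
  calc 4 * (p - 1) ≤ 4 * (t * g * a) := by omega
    _ = 4 * (t * a * g) := by ring
    _ ≤ n ^ 2 := h5.trans h4

/-- B2 -/
theorem ar2 {K f κ k : ℕ} (h : p + 3 ≤ 2 * k) (hk : k ≤ f * (κ - 2) + 2) (hK : 2 * f + κ ≤ K + 2) (hκ : 2 ≤ κ) :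
    GoodN p K f κ := by
  intro t g n ht hf hn
  obtain ⟨a, rfl⟩ : ∃ a, κ = a + 2 := ⟨κ - 2, by omega⟩
  rw [Nat.add_sub_cancel] at hk
  have hp : 4 * (p - 1) ≤ 8 * (f * a) := by omega
  refine hp.trans ?_
  rw [show a + 2 + t - 1 = a + 1 + t by omega] at hn
  rcases (by omega : t = 1 ∨ t = 2 ∨ 3 ≤ t) with rfl | rfl | ht3
  · rw [Nat.choose_one_right] at hn
    have h1 : 2 * f + a ≤ n := by omega
    have h2 : (2 * f + a) ^ 2 ≤ n ^ 2 := Nat.pow_le_pow_left h1 2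
    refine le_trans ?_ h2
    zify
    nlinarith [sq_nonneg (2 * (f : ℤ) - a)]
  · have h0 : 2 * (a + 1 + 2).choose 2 = (a + 3) * (a + 2) := by
      have h1 := Nat.choose_two_right (a + 1 + 2)
      have h2 : (a + 1 + 2) * (a + 1 + 2 - 1) = (a + 3) * (a + 2) := by
        rw [show a + 1 + 2 - 1 = a + 2 by omega]
      rw [h1, h2, Nat.mul_div_cancel' (even_iff_two_dvd.1 _)]
      have h3 := Nat.even_mul_succ_self (a + 2)
      rwa [mul_comm] at h3
    have h1 : 3 * f + (a * a + 5 * a + 2) ≤ 2 * n := by nlinarith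
    have h2 : (3 * f + (a * a + 5 * a + 2)) ^ 2 ≤ (2 * n) ^ 2 := Nat.pow_le_pow_left h1 2
    have h3 : 4 * (3 * f * (a * a + 5 * a + 2)) ≤ (3 * f + (a * a + 5 * a + 2)) ^ 2 := by
      zify
      nlinarith [sq_nonneg (3 * (f : ℤ) - (a * a + 5 * a + 2))]
    have h4 : 32 * (f * a) ≤ 4 * (3 * f * (a * a + 5 * a + 2)) := by
      have : 8 * a ≤ 3 * (a * a + 5 * a + 2) := by nlinarith [Nat.zero_le (a * a)]
      calc 32 * (f * a) = 4 * (f * (8 * a)) := by ring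
        _ ≤ 4 * (f * (3 * (a * a + 5 * a + 2))) := Nat.mul_le_mul_left 4 (Nat.mul_le_mul_left f this)
        _ = _ := by ring
    nlinarith
  · have h0 := choose_mono (a + 1) ht3
    have h1 : 2 * a + 4 ≤ (a + 1 + 3).choose 3 := by
      have h2 := choose_ge a 4
      have e : (a + 1 + 3).choose 3 = (a + 4).choose 3 := by rw [show a + 1 + 3 = a + 4 by ring]
      rw [e]
      induction a with
      | zero => decide
      | succ b _ =>
        have h3 := choose_ge (b + 1 + 1) 3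
        rw [show b + 1 + 1 + 3 = b + 1 + 4 by ring] at h3
        omega
    have h2 : f + 2 * a ≤ n := by omega
    have h3 : (f + 2 * a) ^ 2 ≤ n ^ 2 := Nat.pow_le_pow_left h2 2
    refine le_trans ?_ h3
    zify
    nlinarith [sq_nonneg ((f : ℤ) - 2 * a)]

/-- B3 -/
theorem ar3 {K f κ : ℕ} (h : 4 * (p - 1) ≤ κ ^ 2) (hK : f + κ ≤ K + 1) (hf : 1 ≤ f) (hκ : 1 ≤ κ) :
    GoodN p K f κ := by
  intro t g n ht hfg hn
  have h1 := choose_ge' (t := t) hκ
  have h2 : κ - 1 ≤ t * (κ - 1) := Nat.le_mul_of_pos_left _ ht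
  have h3 : 1 ≤ g := by
    rcases Nat.eq_zero_or_pos g with rfl | h
    · omega
    · exact h
  exact h.trans (Nat.pow_le_pow_left (by omega) 2)

end Cfsg.Agent.H270.KB
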